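import Cfsg.Agent.H419.EP.Big
import Cfsg.Agent.H142.EPIV.Sp4
import Cfsg.Agent.H196.EP.RowS5791
import Cfsg.Agent.H680.EPR.RowSp6
import Cfsg.Agent.H765.EPR.SpTen
import Cfsg.Agent.H342.EP.L213
import Cfsg.Agent.H59.EP.UB

/-!
# S3499: `PspRes12`, the assembly (helper646)
-/

set_option autoImplicit false

namespace Cfsg.Agent.H646.EPR

open Subgroup Cfsg.Agent.H284 Cfsg.Agent.H419.EP
open scoped MatrixGroups

/-- an index bound for a fixed socle -/
def IdxLt (L : Type) [Group L] (c : ℕ) : Prop := ∀ {Q : Type} [Group Q] [Finite Q], IsSimpleGroup Q →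
  ∀ {A : Subgroup Q} {Γ : Subgroup (MulAut Q)}, EPT A Γ → HasSoc A L → A.index < c

/-- own characteristic, socle `L₂(q)` in `PSp_{2k}(q)` -/
def OwnL2 (k p₀ : ℕ) : Prop := ∀ {Q : Type} [Group Q] [Finite Q], IsSimpleGroup Q →
  ∀ {A : Subgroup Q} {Γ : Subgroup (MulAut Q)}, EPT A Γ → ∀ {F : Type} [Field F] [Fintype F]
  (_m : Model Q (Cfsg.spGL k F)), ∀ p : ℕ, p.Prime → CharP F p → p₀ ≤ p →
  HasSoc A (Matrix.ProjectiveSpecialLinearGroup (Fin 2) F) → False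

/-- one residual row -/
def RowSp (k : ℕ) : Prop := ∀ {Q : Type} [Group Q] [Finite Q], IsSimpleGroup Q → ∀ {A : Subgroup Q}
    {Γ : Subgroup (MulAut Q)}, EPT A Γ → ∀ {F : Type} [Field F] [Fintype F]
    (m : Model Q (Cfsg.spGL k F)), 3 ≤ Fintype.card F →
    Cfsg.Geo.InSymplecticResidualClass (m.hat A) → False

/-- `k = 2` -/
theorem row_two (a6 : IdxLt (alternatingGroup (Fin 6)) 3250) (a7 : IdxLt (alternatingGroup (Fin 7)) 27440)
    (own : ∀ {Q : Type} [Group Q] [Finite Q], IsSimpleGroup Q → ∀ {A : Subgroup Q}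
      {Γ : Subgroup (MulAut Q)}, EPT A Γ → ∀ {F : Type} [Field F] [Fintype F]
      (m : Model Q (Cfsg.spGL 2 F)) (P : Subgroup (GL (Fin 2 ⊕ Fin 2) F)) (p : ℕ),
      Cfsg.Geo.IsResidualCore (m.hat A) P → p.Prime → CharP F p → 5 ≤ p → 7 < Fintype.card F →
      Nonempty ((P ⧸ (Cfsg.Geo.scalars (Fin 2 ⊕ Fin 2) F).subgroupOf P) ≃*
        Matrix.ProjectiveSpecialLinearGroup (Fin 2) F) → False) : RowSp 2 := by
  intro Q _ _ hs A Γ h F _ _ m h3 hres
  by_cases ho : Odd (Fintype.card F)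
  · exact H142.EPIV.row_of h m ho hres (fun hS hQ => H142.EPIV.a6_of_index hS (a6 hs h hS) hQ)
      (fun hS hQ => H142.EPIV.a7_of_index hS (a7 hs h hS) hQ) (own hs h m)
  · refine H196.EP.row_S5791 hs h m ho ?_ hres
    by_contra hcon
    have h4 : Fintype.card F = 3 := by omega
    rw [h4] at ho
    exact ho (by decide)

/-- `k = 3` -/
theorem row_three (h5806 : ∀ {F : Type} [Field F] [Fintype F] (H : Subgroup (GL (Fin 3 ⊕ Fin 3) F)),
      Cfsg.Geo.IsMaximalIn (Cfsg.spGL 3 F) H → Cfsg.Geo.InSymplecticResidualClass H → H680.EPR.List5806 H)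
    (hg : H59.EP.TwoGen.{0})
    (bJ2 : ∀ (L : Type) [Group L], Spor.IsoJ2 L → ∀ {Q : Type} [Group Q] [Finite Q], IsSimpleGroup Q →
      ∀ {A : Subgroup Q} {Γ : Subgroup (MulAut Q)}, EPT A Γ → HasSoc A L → A.index ≤ 188000000)
    (own2 : OwnL2 3 7)
    (ownG2 : ∀ {Q : Type} [Group Q] [Finite Q], IsSimpleGroup Q → ∀ {A : Subgroup Q}
      {Γ : Subgroup (MulAut Q)}, EPT A Γ → ∀ {F : Type} [Field F] [Fintype F] (_m : Model Q (Cfsg.spGL 3 F)),
      CharP F 2 → Fintype.card F ≠ 2 → HasSoc A (Cfsg.Lie.G2 F) → False) : RowSp 3 := by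
  intro Q _ _ hs A Γ h F _ _ m h3 hres
  refine H680.EPR.row_of hs h m h3 hres (fun H h1 h2 => h5806 H h1 h2) hg (fun _ hS => ?_)
    (fun L _ hL hS => bJ2 L hL hs h hS) (own2 hs h m) (ownG2 hs h m)
  have hp13 : Fact (Nat.Prime 13) := ⟨by norm_num⟩
  have h1 : A.index ≤ 10 ^ 6 := H342.EP.l213_soc (F := ZMod 13) (Nat.card_zmod 13) h hS
  exact h1.trans (by norm_num)

/-- `k = 5` -/
theorem row_five (h5845 : H765.EPR.St5845) (hU : ∀ (K : Type) [Field K] [Fintype K], Fintype.card K = 4 → ∀ {Q : Type} [Group Q] [Finite Q],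
      IsSimpleGroup Q → ∀ {A : Subgroup Q} {Γ : Subgroup (MulAut Q)}, EPT A Γ → HasSoc A (Cfsg.PSU 5 K 2) →
      A.index ≤ 2 * 10 ^ 18) (own2 : OwnL2 5 11) : RowSp 5 := by
  intro Q _ _ hs A Γ h F _ _ m h3 hres
  exact H765.EPR.row_of h5845 hs h m h3 hres
    (fun K _ _ hK hS => hU K hK hs h hS) (own2 hs h m)

/-- the assembly -/
theorem pspRes12_of (h2 : RowSp 2) (h3 : RowSp 3) (h4 : RowSp 4) (h5 : RowSp 5) (h6 : RowSp 6) : PspRes12 := by
  intro Q _ _ hs A Γ h F _ _ k m hk hk6 hF hres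
  interval_cases k
  · exact h2 hs h m hF hres
  · exact h3 hs h m hF hres
  · exact h4 hs h m hF hres
  · exact h5 hs h m hF hres
  · exact h6 hs h m hF hres

end Cfsg.Agent.H646.EPR
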