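import Cfsg.Agent.H646.EPR.PspFin
import Cfsg.Agent.H998.EPA.Six

/-!
# S3499, the case `n ≤ 12`: the symplectic residue (helper646)

`pspRes12 : PspRes12`, no hypotheses.
-/

set_option autoImplicit false

namespace Cfsg.Agent.H646.EPR

/-- **the symplectic residue for `n ≤ 12`** -/
theorem pspRes12 : Cfsg.Agent.H419.EP.PspRes12 :=
  @pspRes12_of_a6 (@fun _ _ _ _ _ _ h hs hQ => Cfsg.Agent.H998.EPA.a6_false h hs hQ)

end Cfsg.Agent.H646.EPR
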