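import Cfsg.Agent.H646.EPR.RowThree

/-!
# S3499: `PspRes12`, the row `k = 5` (helper646)
-/

set_option autoImplicit false

namespace Cfsg.Agent.H646.EPR

open Subgroup Cfsg.Agent.H284 Cfsg.Agent.H419.EP
open scoped MatrixGroups

/-- `k = 5` -/
theorem row_five_of (h5845 : H765.EPR.St5845) (hg : H59.EP.TwoGen.{0})
    (hU : ∀ (K : Type) [Field K] [Fintype K], Fintype.card K = 4 → ∀ {Q : Type} [Group Q] [Finite Q],
      IsSimpleGroup Q → ∀ {A : Subgroup Q} {Γ : Subgroup (MulAut Q)}, EPT A Γ → HasSoc A (Cfsg.PSU 5 K 2) →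
      A.index ≤ 2 ^ 61) : RowSp 5 := by
  intro Q _ _ hs A Γ h F _ _ m h3 hres
  refine H765.EPR.row_of h5845 hs h m h3 hres (fun K _ _ hK hS => ?_)
    (own_two hg (k := 5) (by norm_num) (p₀ := 11) (by norm_num) hs h m)
  exfalso
  have h5 := hU K hK hs h hS
  have hfin : Finite (Cfsg.PSU 5 K 2) := inferInstance
  have h8 := H765.EPR.card_aut_psu_five hK
  have h9 := hS.card_le
  rw [h8] at h9
  have h10 : Nat.card Q ≤ 27371520 * 2 ^ 61 := by
    rw [← A.card_mul_index]
    exact Nat.mul_le_mul h9 h5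
  have h6 := H765.EPR.card_sp_ten m (by norm_num) h3
  have h7 := h6.trans h10
  norm_num at h7

end Cfsg.Agent.H646.EPR
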