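import Cfsg.Agent.H646.EPR.RowThree
import Cfsg.Agent.H156.EP.RowPSp8
import Cfsg.Agent.H276.EP.SpEight

/-!
# S3499: `PspRes12`, the row `k = 4` (helper646)
-/

set_option autoImplicit false

namespace Cfsg.Agent.H646.EPR

open Subgroup Cfsg.Agent.H284 Cfsg.Agent.H419.EP
open scoped MatrixGroups

/-- `k = 4` -/
theorem row_four (hg : H59.EP.TwoGen.{0}) : RowSp 4 := by
  intro Q _ _ hs A Γ h F _ _ m h3 hres
  refine H156.EP.row h h3 m hres (fun hS h11 => ?_) (fun K _ _ hK ho hA => H276.EP.l2_cube_sp_eight hs h ho m hK hA)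
  exact own_two hg (k := 4) (by norm_num) (p₀ := 11) (by norm_num) hs h m (ringChar F) (CharP.char_is_prime F _)
    inferInstance h11 hS

end Cfsg.Agent.H646.EPR
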