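import Cfsg.Agent.H646.EPR.PspRes
import Cfsg.Agent.H901.EP.Row
import Cfsg.Agent.H36.EPL.Bound
import Cfsg.Agent.H284.EPO.Fam
import Cfsg.Agent.H419.EP.Filt
import Cfsg.Agent.H638.G2Iso
import Cfsg.Agent.S1055

/-!
# S3499: `PspRes12`, the row `k = 3` (helper646)
-/

set_option autoImplicit false

namespace Cfsg.Agent.H646.EPR

open Subgroup Cfsg.Agent.H284 Cfsg.Agent.H419.EP Cfsg.Agent.H680.EPR Cfsg.Agent.KFacts.RgdFilt
open scoped MatrixGroups

/-- own characteristic, socle `L₂(q)`: all `k ≥ 3` -/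
theorem own_two (hg : H59.EP.TwoGen.{0}) {k : ℕ} (hk : 3 ≤ k) {p₀ : ℕ} (hp₀ : 4 ≤ p₀) : OwnL2 k p₀ := by
  intro Q _ _ hs A Γ h F _ _ m p hp hcp h7 hS
  refine H36.EPL.own_sp hg hs h ?_ hk m hS
  have h1 : p ∣ Fintype.card F := by
    obtain ⟨n, -, hn⟩ := @FiniteField.card F _ _ p hcp
    rw [hn]
    exact dvd_pow_self p n.pos.ne'
  have h2 := Nat.le_of_dvd Fintype.card_pos h1
  omega

/-- own characteristic, socle `G₂(q)`, `q > 2` -/
theorem own_G2 {Q : Type} [Group Q] [Finite Q] (hs : IsSimpleGroup Q) {A : Subgroup Q} {Γ : Subgroup (MulAut Q)}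
    (h : EPT A Γ) {F : Type} [Field F] [Fintype F] {p : ℕ} [Fact p.Prime] [CharP F p] (hQ : HasFilt p Q)
    (h3 : 3 ≤ Fintype.card F) (hS : HasSoc A (Cfsg.Lie.G2 F)) : False := by
  have hF : ∃ a : F, a ≠ 0 ∧ a ≠ 1 := by
    classical
    by_contra hcon
    push Not at hcon
    have h4 : (Finset.univ : Finset F) ⊆ {0, 1} := by
      intro a _
      by_cases ha : a = 0
      · rw [ha]; exact Finset.mem_insert_self _ _
      · rw [hcon a ha]; exact Finset.mem_insert_of_mem (Finset.mem_singleton_self _)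
    have h5 := Finset.card_le_card h4
    rw [Finset.card_univ] at h5
    have h6 : ({0, 1} : Finset F).card ≤ 2 := Finset.card_le_two
    omega
  obtain ⟨e2⟩ := Cfsg.Agent.H638.G2Iso.equiv (F := F)
  haveI : IsSimpleGroup ↥(Cfsg.Lie.chevG2.group F) := (Cfsg.Agent.S1055.result hF).1
  have := hs
  exact (H284.Own.bigL_G2 F p h3).kill hQ h (hS.congr e2)

/-- the conclusion of S5806 gives the row -/
theorem row_three_of (hg : H59.EP.TwoGen.{0})
    (h5806 : ∀ {F : Type} [Field F] [Fintype F] (H : Subgroup (GL (Fin 3 ⊕ Fin 3) F)),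
      Cfsg.Geo.IsMaximalIn (Cfsg.spGL 3 F) H → Cfsg.Geo.InSymplecticResidualClass H → List5806 H) : RowSp 3 := by
  intro Q _ _ hs A Γ h F _ _ m hq hres
  obtain ⟨P, p, hP, hp, hcp, hcase⟩ := h5806 _ (m.isMaximalIn h.max) hres
  have hsoc := hasSoc_of_core m hP
  rcases hcase with ⟨⟨e⟩, hF, hc⟩ | ⟨⟨e⟩, hc⟩ | ⟨⟨e⟩, hc⟩ | ⟨⟨e⟩, hF⟩ | ⟨⟨K, _, _, hK, ⟨e⟩⟩, hc⟩ | ⟨e, hc⟩ |
    ⟨⟨e⟩, h7⟩ | ⟨⟨e⟩, h2, hF⟩
  · have := card_six_le m hq rfl
    norm_num at this
    exact kill_a5 hg hs h (hsoc.congr e) (by omega)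
  · have := card_six_le m hq rfl
    norm_num at this
    exact kill_l7 hg hs h (hsoc.congr e) (by omega)
  · by_cases h3 : Fintype.card F = 3
    · have h4 := card_six_le m hq rfl
      norm_num at h4
      have : Fact (Nat.Prime 13) := ⟨by norm_num⟩
      have h5 : Nat.card (MulAut (Matrix.ProjectiveSpecialLinearGroup (Fin 2) (ZMod 13))) * 12 = 26208 :=
        card_aut_psl_two (p := 13) (by norm_num)
      have h6 : Nat.card A ≤ 2184 := by
        have h7 := Nat.le_of_dvd (by omega) (card_dvd_of_soc (hsoc.congr e))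
        omega
      have h8 : A.index ≤ 10 ^ 6 := H342.EP.l213_soc (F := ZMod 13) (Nat.card_zmod 13) h (hsoc.congr e)
      exact kill h8 h6 (by omega)
    · have h4 := card_six_le m (c := 4) (by omega) rfl
      norm_num at h4
      exact kill_l13 hg hs h (hsoc.congr e) (by omega)
  · have h4 := card_six_le m (c := 9) (by omega) rfl
    norm_num at h4
    exact kill_a7 hg hs h (hsoc.congr e) (by omega)
  · have h7 : 7 ≤ Fintype.card F := by
      have := hp.two_le
      rcases hc with hc | ⟨hc, hc'⟩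
      · omega
      · rw [hc]
        by_contra hlt
        have h8 : p < 7 := by omega
        interval_cases p <;> omega
    have h4 := card_six_le m h7 rfl
    norm_num at h4
    exact kill_u33 hg hs h hK (hsoc.congr e) (by omega)
  · obtain ⟨N, h1, h2, h3, ⟨f⟩⟩ := hsoc
    obtain ⟨g⟩ := e
    exact H901.EP.row_j2 h m h1 h2 h3 ⟨f.trans g⟩ ⟨p, hp, hcp, hc⟩
  · exact own_two hg le_rfl (p₀ := 7) (by norm_num) hs h m p hp hcp h7 (hsoc.congr e)
  · subst h2
    have : Fact (Nat.Prime 2) := ⟨Nat.prime_two⟩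
    have hf := hasFilt_sp (k := 3) (by norm_num) m
    rw [ringChar.eq F 2] at hf
    exact own_G2 hs h hf (by omega) (hsoc.congr e)

end Cfsg.Agent.H646.EPR
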