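import Cfsg.Agent.H646.EPR.RowTwo
import Cfsg.Agent.H646.EPR.RowThree
import Cfsg.Agent.H646.EPR.RowFour
import Cfsg.Agent.H646.EPR.RowFive
import Cfsg.Agent.H212.EP.RowSix
import Cfsg.Agent.H896.EP.UFive
import Cfsg.Agent.S5806
import Cfsg.Agent.S5845

/-!
# S3499: `PspRes12` from the `A₆` case (helper646)
-/

set_option autoImplicit false

namespace Cfsg.Agent.H646.EPR

open Subgroup Cfsg.Agent.H284 Cfsg.Agent.H419.EP
open scoped MatrixGroups

/-- `PspRes12`, the case of `A₆` in `PSp₄(q)` left -/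
theorem pspRes12_of_a6 (a6 : ∀ {Q : Type} [Group Q] [Finite Q], IsSimpleGroup Q → ∀ {A : Subgroup Q}
      {Γ : Subgroup (MulAut Q)}, EPT A Γ → HasSoc A (alternatingGroup (Fin 6)) → 4680000 ≤ Nat.card Q → False) :
    PspRes12 := by
  have hg : H59.EP.TwoGen.{0} := fun _ _ _ _ => Cfsg.Agent.S3948.result
  have h2 : RowSp 2 := @row_two_of @a6
  have h3 : RowSp 3 := @row_three_of hg (fun H h1 h2 => Cfsg.Agent.S5806.result H h1 h2)
  have h4 : RowSp 4 := @row_four hg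
  have hU : ∀ (K : Type) [Field K] [Fintype K], Fintype.card K = 4 → ∀ {Q : Type} [Group Q] [Finite Q],
      IsSimpleGroup Q → ∀ {A : Subgroup Q} {Γ : Subgroup (MulAut Q)}, EPT A Γ → HasSoc A (Cfsg.PSU 5 K 2) →
      A.index ≤ 2 ^ 61 := by
    intro K _ _ hK Q _ _ hs A Γ h hS
    obtain ⟨N, h1, h2, h3, ⟨e⟩⟩ := hS
    exact H896.EP.index_le_U5 hs h h1 h2 hK e h3
  have h5 : RowSp 5 := @row_five_of (fun H h1 h2 => Cfsg.Agent.S5845.result H h1 h2) hg @hU
  exact @pspRes12_of h2 h3 h4 h5 @H212.EP.row_six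

end Cfsg.Agent.H646.EPR
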