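import Cfsg.Agent.H646.EPR.PspRes
import Cfsg.Agent.H646.EPR.SSeven
import Cfsg.Agent.H686.EP.L2Sp4

/-!
# S3499: `PspRes12`, the row `k = 2` (helper646)
-/

set_option autoImplicit false

namespace Cfsg.Agent.H646.EPR

open Subgroup Cfsg.Agent.H284 Cfsg.Agent.H419.EP
open scoped MatrixGroups

/-- `k = 2` -/
theorem row_two_of (a6 : ∀ {Q : Type} [Group Q] [Finite Q], IsSimpleGroup Q → ∀ {A : Subgroup Q}
      {Γ : Subgroup (MulAut Q)}, EPT A Γ → HasSoc A (alternatingGroup (Fin 6)) → 4680000 ≤ Nat.card Q → False) :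
    RowSp 2 := by
  intro Q _ _ hs A Γ h F _ _ m h3 hres
  by_cases ho : Odd (Fintype.card F)
  · exact H142.EPIV.row_of h m ho hres (a6 hs h) (fun hS hQ => seven_sp4 h hS hQ)
      (fun P p hP hp hc h5 h7 e => Cfsg.Agent.H686.EP.l2_sp4 hs h m hP hp hc h5 h7 e)
  · refine H196.EP.row_S5791 hs h m ho ?_ hres
    by_contra hcon
    have h4 : Fintype.card F = 3 := by omega
    rw [h4] at ho
    exact ho (by decide)

end Cfsg.Agent.H646.EPR
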